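import Mathlib
import Cfsg.Agent.Lib.Helper56.FrobComplC

set_option autoImplicit false
set_option linter.unusedSectionVars false
set_option linter.style.haveILetI false

/-! S4291 (Brown): definitions and small shared lemmas for the lemma server "SFC". -/

namespace Cfsg.Agent.Helper4.SFC

/-- every `p`-subgroup is cyclic or (generalized) quaternion -/
def PQ (G : Type*) [Group G] : Prop :=
  ∀ (p : ℕ) [Fact p.Prime] (P : Subgroup G), IsPGroup p P →
    IsCyclic P ∨ ∃ n : ℕ, Nonempty (P ≃* QuaternionGroup n)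

/-- all Sylow subgroups of `N` are cyclic -/
def ZSub {G : Type*} [Group G] (N : Subgroup G) : Prop :=
  ∀ (p : ℕ) [Fact p.Prime] (P : Sylow p N), IsCyclic P

variable {G : Type*} [Group G] [Finite G]

theorem pq_two (h : PQ G) (P : Subgroup G) (hP : IsPGroup 2 P) :
    IsCyclic P ∨ ∃ k : ℕ, 1 ≤ k ∧ Nonempty (P ≃* QuaternionGroup (2 ^ k)) := by
  haveI : Fact (Nat.Prime 2) := ⟨Nat.prime_two⟩
  rcases h 2 P hP with h | ⟨n, ⟨e⟩⟩
  · exact Or.inl h
  · obtain ⟨k, rfl⟩ := Cfsg.Agent.Helper56.FC.quat_two_pow hP e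
    rcases Nat.eq_zero_or_pos k with rfl | hk
    · left
      rw [pow_zero] at e
      haveI := Cfsg.Agent.Helper56.FC.quat_one_cyclic
      exact isCyclic_of_surjective e.symm.toMonoidHom e.symm.surjective
    · exact Or.inr ⟨k, hk, ⟨e⟩⟩

theorem pq_odd (h : PQ G) (p : ℕ) [Fact p.Prime] (hp2 : p ≠ 2) (P : Subgroup G)
    (hP : IsPGroup p P) : IsCyclic P := by
  rcases h p P hP with h | ⟨n, ⟨e⟩⟩
  · exact h
  · exact (Cfsg.Agent.Helper56.FC.not_quat_of_odd hp2 hP e).elim

/-- a subgroup all of whose `2`-subgroups are cyclic has only cyclic Sylow subgroups -/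
theorem zsub_of_two (h : PQ G) (N : Subgroup G)
    (h2 : ∀ P₂ : Subgroup G, P₂ ≤ N → IsPGroup 2 P₂ → IsCyclic P₂) : ZSub N := by
  intro p _ P
  have hP : IsPGroup p ((P : Subgroup N).map N.subtype) := P.2.map N.subtype
  have hle : (P : Subgroup N).map N.subtype ≤ N := by
    rintro _ ⟨x, -, rfl⟩
    exact x.2
  have e : (P : Subgroup N) ≃* (P : Subgroup N).map N.subtype :=
    (P : Subgroup N).equivMapOfInjective N.subtype N.subtype_injective
  have hc : IsCyclic ((P : Subgroup N).map N.subtype) := by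
    by_cases hp : p = 2
    · subst hp
      exact h2 _ hle hP
    · exact pq_odd h p hp _ hP
  exact isCyclic_of_surjective e.symm.toMonoidHom e.symm.surjective

/-- a homomorphism to `Perm (Fin n)` whose range has index two factors through `Aₙ` -/
theorem alt_of_index_two {n : ℕ} (f : G →* Equiv.Perm (Fin n)) (h : f.range.index = 2) :
    ∃ g : G →* alternatingGroup (Fin n), Function.Surjective g ∧ g.ker = f.ker := by
  have hr : f.range = alternatingGroup (Fin n) := Equiv.Perm.eq_alternatingGroup_of_index_eq_two h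
  refine ⟨f.codRestrict (alternatingGroup (Fin n)) (fun x => hr ▸ ⟨x, rfl⟩), ?_, ?_⟩
  · rintro ⟨y, hy⟩
    rw [← hr] at hy
    obtain ⟨x, rfl⟩ := hy
    exact ⟨x, rfl⟩
  · ext x
    simp only [MonoidHom.mem_ker]
    constructor
    · intro hx
      exact congrArg Subtype.val hx
    · intro hx
      exact Subtype.ext hx

end Cfsg.Agent.Helper4.SFC
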